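import Groth.Agent.H4PSect.Basic
import Mathlib.RingTheory.Noetherian.Basic

/-!
# Kernel and cokernel of restriction to a punctured spectrum
-/

set_option autoImplicit false
set_option linter.style.haveILetI false
set_option linter.unusedSectionVars false
set_option linter.unusedVariables false
universe u

open CategoryTheory AlgebraicGeometry Opposite TopologicalSpace

namespace Groth.Agent.H4PSect

theorem mem_iSup_torsionBy {A : Type u} [CommRing A] (a : Ideal A) {N : Type u} [AddCommGroup N] [Module A N]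
    (x : N) : x ∈ (⨆ n : ℕ, LocCoh.torsionBy (a ^ n) N) ↔ ∃ n : ℕ, ∀ r ∈ a ^ n, r • x = 0 := by
  rw [Submodule.mem_iSup_of_directed _ (Monotone.directed_le fun m n hmn y hy =>
    (Submodule.mem_torsionBySet_iff _ _).2 fun r => (Submodule.mem_torsionBySet_iff _ _).1 hy
      ⟨r.1, Ideal.pow_le_pow_right hmn r.2⟩)]
  exact exists_congr fun n => ⟨fun h r hr => (Submodule.mem_torsionBySet_iff _ _).1 h ⟨r, hr⟩,
    fun h => (Submodule.mem_torsionBySet_iff _ _).2 fun r => h r.1 r.2⟩

variable {R : CommRingCat.{u}} [IsNoetherianRing R] (a : Ideal R) (M : ModuleCat.{u} R)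

/-- The punctured spectrum. -/
abbrev P : (Spec R).Opens := LocCoh.puncturedOpen R a

theorem basicOpen_le_P {f : R} (hf : f ∈ a) : (PrimeSpectrum.basicOpen f : (Spec R).Opens) ≤ P a :=
  fun p hp hp' => hp (hp' hf)

theorem exists_basicOpen {p : Spec R} (hp : p ∈ P a) :
    ∃ f ∈ a, p ∈ (PrimeSpectrum.basicOpen f : (Spec R).Opens) :=
  SetLike.not_le_iff_exists.1 hp

theorem eq_zero_on_of_killed {U : (Spec R).Opens} (hU : U ≤ P a) (n : ℕ) (x : S M U)
    (hx : ∀ r ∈ a ^ n, r • x = 0) : x = 0 := by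
  refine eq_zero_of_cover M x fun p hp => ?_
  obtain ⟨f, hfa, hpf⟩ := exists_basicOpen a (hU hp)
  refine ⟨U ⊓ PrimeSpectrum.basicOpen f, inf_le_left, ⟨hp, hpf⟩, eq_zero_of_pow_smul M inf_le_right n _ ?_⟩
  rw [← map_smul, hx _ (Ideal.pow_mem_pow hfa n), map_zero]

variable {W : (Spec R).Opens} (hUW : P a ≤ W)

theorem ker_res : LinearMap.ker (res M hUW) = ⨆ n : ℕ, LocCoh.torsionBy (a ^ n) (S M W) := by
  ext x
  rw [mem_iSup_torsionBy, LinearMap.mem_ker]
  constructor
  · intro hx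
    let K : Ideal R := LinearMap.ker (LinearMap.toSpanSingleton R (S M W) x)
    have hK : a ≤ K.radical := fun f hf => by
      obtain ⟨k, hk⟩ := exists_pow_smul_eq_zero M (W := W) (NoetherianSpace.isCompact _) f x
        fun V hV hVf => by rw [← res_res M (hVf.trans (basicOpen_le_P a hf)) hUW, hx, map_zero]
      exact ⟨k, hk⟩
    obtain ⟨n, hn⟩ := Ideal.exists_pow_le_of_le_radical_of_fg hK (IsNoetherian.noetherian a)
    exact ⟨n, fun r hr => hn hr⟩
  · rintro ⟨n, hn⟩
    exact eq_zero_on_of_killed a M le_rfl n _ fun r hr => by rw [← map_smul, hn r hr, map_zero]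

theorem isPowerTorsion_coker_toOpen :
    LocCoh.IsPowerTorsion a (S M (P a) ⧸ LinearMap.range (tilde.toOpen M (P a)).hom) := by
  intro z
  obtain ⟨x, rfl⟩ := Submodule.Quotient.mk_surjective _ z
  let K : Ideal R := (LinearMap.range (tilde.toOpen M (P a)).hom).comap (LinearMap.toSpanSingleton R (S M (P a)) x)
  have hK : a ≤ K.radical := fun f hf => by
    obtain ⟨k, m, hk⟩ := exists_pow_smul_eq_toOpen M (W := P a) (NoetherianSpace.isCompact _) f
      (basicOpen_le_P a hf) x
    exact ⟨k, ⟨m, hk.symm⟩⟩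
  obtain ⟨n, hn⟩ := Ideal.exists_pow_le_of_le_radical_of_fg hK (IsNoetherian.noetherian a)
  refine ⟨n, fun r hr => ?_⟩
  rw [← Submodule.Quotient.mk_smul, Submodule.Quotient.mk_eq_zero]
  exact hn hr

theorem isPowerTorsion_coker_res :
    LocCoh.IsPowerTorsion a (S M (P a) ⧸ LinearMap.range (res M hUW)) := by
  intro z
  obtain ⟨x, rfl⟩ := Submodule.Quotient.mk_surjective _ z
  obtain ⟨n, hn⟩ := isPowerTorsion_coker_toOpen a M (Submodule.Quotient.mk x)
  refine ⟨n, fun r hr => ?_⟩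
  obtain ⟨m, hm⟩ := (Submodule.Quotient.mk_eq_zero _).1 ((Submodule.Quotient.mk_smul _ r x).trans (hn r hr))
  rw [← Submodule.Quotient.mk_smul, Submodule.Quotient.mk_eq_zero]
  exact ⟨(tilde.toOpen M W).hom m, hm⟩

theorem ker_toOpen : LinearMap.ker (tilde.toOpen M (P a)).hom = ⨆ n : ℕ, LocCoh.torsionBy (a ^ n) M := by
  have h : (tilde.toOpen M (P a)).hom = (res M (le_top : P a ≤ ⊤)) ∘ₗ (tilde.toOpen M ⊤).hom := rfl
  have hb : Function.Bijective (tilde.toOpen M ⊤).hom := ConcreteCategory.bijective_of_isIso (tilde.toOpen M ⊤)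
  ext m
  rw [h, LinearMap.ker_comp, Submodule.mem_comap, ker_res, mem_iSup_torsionBy, mem_iSup_torsionBy]
  exact exists_congr fun n => forall₂_congr fun r _ => by
    rw [← map_smul]
    exact map_eq_zero_iff _ hb.1

theorem iSup_torsionBy_P : (⨆ n : ℕ, LocCoh.torsionBy (a ^ n) (S M (P a))) = ⊥ := by
  refine eq_bot_iff.2 fun x hx => ?_
  obtain ⟨n, hn⟩ := (mem_iSup_torsionBy a x).1 hx
  exact eq_zero_on_of_killed a M le_rfl n x hn

end Groth.Agent.H4PSect
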