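import Groth.Prelude.Def_Wider
import Mathlib.AlgebraicGeometry.Modules.Tilde
import Mathlib.AlgebraicGeometry.Noetherian

/-!
# Sections of `M~` over opens containing a punctured spectrum
-/

set_option autoImplicit false
set_option linter.style.haveILetI false
universe u

open CategoryTheory AlgebraicGeometry Opposite TopologicalSpace

namespace Groth.Agent.H4PSect

variable {R : CommRingCat.{u}} (M : ModuleCat.{u} R)

/-- Sections of `M~`. -/
noncomputable abbrev S (W : (Spec R).Opens) : ModuleCat.{u} R :=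
  (modulesSpecToSheaf.obj (tilde M)).presheaf.obj (op W)

/-- Restriction. -/
noncomputable abbrev res {V W : (Spec R).Opens} (h : V ≤ W) : S M W →ₗ[R] S M V :=
  ((modulesSpecToSheaf.obj (tilde M)).presheaf.map (homOfLE h).op).hom

theorem res_res {U V W : (Spec R).Opens} (h : U ≤ V) (h' : V ≤ W) (x : S M W) :
    res M h (res M h' x) = res M (h.trans h') x := by
  show ((modulesSpecToSheaf.obj (tilde M)).presheaf.map (homOfLE h').op ≫
    (modulesSpecToSheaf.obj (tilde M)).presheaf.map (homOfLE h).op).hom x = _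
  rw [← Functor.map_comp]
  rfl

/-- Powers of an element whose basic open contains `V` act injectively. -/
theorem eq_zero_of_pow_smul {V : (Spec R).Opens} {f : R} (hV : V ≤ PrimeSpectrum.basicOpen f) (k : ℕ)
    (x : S M V) (hx : f ^ k • x = 0) : x = 0 := by
  induction k with
  | zero => simpa using hx
  | succ k ih =>
    rw [pow_succ', mul_smul] at hx
    exact ih ((tilde M).isSMulRegular_of_le_basicOpen hV (hx.trans (smul_zero f).symm))

/-- Sections agreeing locally are equal. -/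
theorem eq_zero_of_cover {W : (Spec R).Opens} (x : S M W)
    (h : ∀ p ∈ W, ∃ (V : (Spec R).Opens) (hV : V ≤ W), p ∈ V ∧ res M hV x = 0) : x = 0 := by
  choose V hVW hpV hV using h
  refine TopCat.Sheaf.eq_of_locally_eq' (modulesSpecToSheaf.obj (tilde M)) (fun p : W => V p.1 p.2) W
    (fun p => homOfLE (hVW p.1 p.2)) (fun p hp => Opens.mem_iSup.2 ⟨⟨p, hp⟩, hpV p hp⟩) x 0 fun p => ?_
  exact (hV p.1 p.2).trans (map_zero _).symm

/-- A section vanishing on `W ∩ D(f)` is killed by a power of `f`. -/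
theorem exists_pow_smul_eq_zero {W : (Spec R).Opens} (hW : IsCompact (W : Set (Spec R))) (f : R) (x : S M W)
    (hx : ∀ (V : (Spec R).Opens) (hV : V ≤ W), V ≤ PrimeSpectrum.basicOpen f → res M hV x = 0) :
    ∃ k : ℕ, f ^ k • x = 0 := by
  classical
  have hc : ∀ p : W, ∃ g : R, p.1 ∈ PrimeSpectrum.basicOpen g ∧ PrimeSpectrum.basicOpen g ≤ W := fun p => by
    obtain ⟨_, ⟨_, ⟨g, rfl⟩, rfl⟩, hp, hle⟩ :=
      PrimeSpectrum.isBasis_basic_opens.exists_subset_of_mem_open p.2 W.isOpen
    exact ⟨g, hp, hle⟩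
  choose g hg hgW using hc
  have hk : ∀ p : W, ∃ k : ℕ, res M (hgW p) (f ^ k • x) = 0 := fun p => by
    set D : (Spec R).Opens := PrimeSpectrum.basicOpen (g p)
    obtain ⟨⟨m, ⟨_, j, rfl⟩⟩, hm⟩ :=
      IsLocalizedModule.surj (Submonoid.powers (g p)) (tilde.toOpen M (PrimeSpectrum.basicOpen (g p))).hom
        (res M (hgW p) x)
    replace hm : (g p) ^ j • res M (hgW p) x = (tilde.toOpen M (PrimeSpectrum.basicOpen (g p))).hom m := hm
    have hD : (PrimeSpectrum.basicOpen (g p * f) : (Spec R).Opens) ≤ PrimeSpectrum.basicOpen (g p) :=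
      PrimeSpectrum.basicOpen_mul_le_left _ _
    have h0 : (tilde.toOpen M (PrimeSpectrum.basicOpen (g p * f))).hom m = 0 := by
      have h1 := congrArg (res M hD) hm
      rw [map_smul] at h1
      erw [res_res M hD (hgW p) x] at h1
      rw [hx _ _ (PrimeSpectrum.basicOpen_mul_le_right _ _), smul_zero] at h1
      exact h1.symm
    obtain ⟨⟨_, k, rfl⟩, hk⟩ := (IsLocalizedModule.eq_zero_iff (Submonoid.powers (g p * f))
      (tilde.toOpen M (PrimeSpectrum.basicOpen (g p * f))).hom).1 h0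
    replace hk : (g p * f) ^ k • m = 0 := hk
    refine ⟨k, eq_zero_of_pow_smul M le_rfl (k + j) _ ?_⟩
    rw [map_smul, smul_smul, show (g p) ^ (k + j) * f ^ k = (g p * f) ^ k * (g p) ^ j by ring, mul_smul, hm,
      ← map_smul, hk, map_zero]
  choose k hk using hk
  obtain ⟨t, ht⟩ := hW.elim_finite_subcover (fun p : W => ((PrimeSpectrum.basicOpen (g p) : Opens (PrimeSpectrum R)) : Set (PrimeSpectrum R)))
    (fun p => (PrimeSpectrum.basicOpen (g p)).isOpen) fun p hp => Set.mem_iUnion.2 ⟨⟨p, hp⟩, hg ⟨p, hp⟩⟩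
  refine ⟨t.sup k, eq_zero_of_cover M _ fun q hq => ?_⟩
  obtain ⟨p, hpt, hqp⟩ := Set.mem_iUnion₂.1 (ht hq)
  refine ⟨_, hgW p, hqp, ?_⟩
  obtain ⟨d, hd⟩ := Nat.exists_eq_add_of_le (Finset.le_sup (f := k) hpt)
  rw [hd, pow_add, mul_comm, mul_smul, map_smul, hk p, smul_zero]

/-- A power of `f` times a section extends to a global section. -/
theorem exists_pow_smul_eq_toOpen {W : (Spec R).Opens} (hW : IsCompact (W : Set (Spec R))) (f : R)
    (hf : PrimeSpectrum.basicOpen f ≤ W) (x : S M W) :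
    ∃ (k : ℕ) (m : M), f ^ k • x = (tilde.toOpen M W).hom m := by
  obtain ⟨⟨m, ⟨_, n, rfl⟩⟩, hm⟩ :=
    IsLocalizedModule.surj (Submonoid.powers f) (tilde.toOpen M (PrimeSpectrum.basicOpen f)).hom
      (res M hf x)
  replace hm : f ^ n • res M hf x = (tilde.toOpen M (PrimeSpectrum.basicOpen f)).hom m := hm
  obtain ⟨k, hk⟩ := exists_pow_smul_eq_zero M hW f (f ^ n • x - (tilde.toOpen M W).hom m) fun V hV hVf => by
    rw [← res_res M hVf hf, map_sub, map_smul, hm]
    exact (congrArg (res M hVf) (sub_self _)).trans (map_zero _)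
  refine ⟨k + n, f ^ k • m, ?_⟩
  rwa [smul_sub, smul_smul, ← pow_add, ← map_smul, sub_eq_zero] at hk

end Groth.Agent.H4PSect
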